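import Groth.Agent.ArtEuler92.Basic
import Groth.Agent.EulerChar.Cartier
import Groth.Agent.DualCurveTF.Main
import Groth.Agent.IdealSh.IdealMod

/-!
# The degree of the inverse of the ideal of a point, with lengths
-/

set_option autoImplicit false
set_option linter.style.haveILetI false
set_option linter.unusedSectionVars false

universe u

open CategoryTheory CategoryTheory.Limits AlgebraicGeometry TopologicalSpace
open Groth.Agent.CohDev (kcl)

noncomputable section

namespace Groth.Agent.ArtEuler92

variable (A : Type u) [CommRing A] [IsArtinianRing A] {X : Scheme.{u}} [X.Over (Spec (CommRingCat.of A))]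
  [IsProper (X ↘ Spec (CommRingCat.of A))] (hdim : topologicalKrullDim X ≤ 1)

include hdim in
theorem chi_inverse (D : X.IdealSheafData) {L : X.Modules} (hL : PicF.IsInvertible L)
    (e : CohB1.tensorMod L (ClSub.idealMod D) ≅ Coh.structureModule X) {x : X}
    (hsupp : (D.support : Set X) = {x}) :
    chi A L - chi A (Coh.structureModule X) = ((Module.length A (Coh.HH X (ClSub.quotMod D) 0)).toNat : ℤ) := by
  haveI := isNoetherian A (X := X)
  have hO := VBLib.isCoh_of_ofRank
    (ProjTwist.isFinLocFreeOfRank_one (PicLoc.isInvertible_structureModule X))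
  haveI : (Coh.structureModule D.subscheme).IsQuasicoherent :=
    ProjTwist.isQuasicoherent_structureModule D.subscheme
  have hI : Coh.IsCoh (ClSub.idealMod D) :=
    CohDev.isCoh_kernel (ClSub.toSubscheme D) hO (QCoh.isQuasicoherent_pushforward D.subschemeι _)
  have hS := EulerChar.shortExact_ideal D
  have hQ : Coh.IsCoh (ClSub.quotMod D) :=
    CohDev.isCoh_of_iso ((cokernelIsCokernel (ClSub.idealModι D)).coconePointUniqueUpToIso hS.gIsCokernel)
      (CohDev.isCoh_cokernel (ClSub.idealModι D) hI.1 hO)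
  have hsub : CohB1.support (ClSub.quotMod D) ⊆ {x} := hsupp ▸ EulerChar.support_quotMod_subset D
  have hx0 : topologicalKrullDim ↥({x} : Set X) ≤ ((0 : ℕ) : WithBot ℕ∞) := by
    refine Order.krullDim_nonpos_iff_forall_isMax.2 fun C E hCE => ?_
    intro y _
    obtain ⟨c, hc⟩ := C.isIrreducible'.nonempty
    rwa [Subsingleton.elim y c]
  have hd := (TopDimLib.topDim_le_of_subset hsub).trans hx0
  have hL1 := ProjTwist.isFinLocFreeOfRank_one hL
  have hT := CohDev.tens_shortExact hL1 hS
  have h1 := chi_add A hdim _ hT (CohDev.isCoh_tens hL1 hI) (CohDev.isCoh_tens hL1 hO) (CohDev.isCoh_tens hL1 hQ)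
  have hmem := CohDev.kcl_tens_sub_mem_filt hL1 hQ 0 hd
  have hbot : AddSubgroup.closure {c : SGA6.Kcoh X | ∃ G : X.Modules, Coh.IsCoh G ∧
      topologicalKrullDim ↥(CohB1.support G) < ((0 : ℕ) : WithBot ℕ∞) ∧ c = kcl G} ≤ (chiK A hdim).ker := by
    rw [AddSubgroup.closure_le]
    rintro c ⟨H, hH, hd, rfl⟩
    rw [SetLike.mem_coe, AddMonoidHom.mem_ker, chiK_kcl A hdim hH]
    exact chi_of_isZero A hdim (CohDev.isZero_of_support_eq_empty (EulerChar.support_eq_empty_of_dim_lt hd))
  have h2 := hbot hmem
  rw [AddMonoidHom.mem_ker, map_sub, map_nsmul, chiK_kcl A hdim (CohDev.isCoh_tens hL1 hQ),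
    chiK_kcl A hdim hQ, one_nsmul] at h2
  have hxc : IsClosed ({x} : Set X) := hsupp ▸ D.support.isClosed
  haveI : Subsingleton (Coh.HH X (ClSub.quotMod D) 1) :=
    DualCurveTF.subsingleton_HH_of_support_dim (ClSub.quotMod D) hxc
      (fun y hy => not_not.1 fun h => hy (hsub h)) hx0 1 one_pos
  have h3 : chi A (ClSub.quotMod D) = ((Module.length A (Coh.HH X (ClSub.quotMod D) 0)).toNat : ℤ) := by
    simp [chi, Module.length_eq_zero]
  simp only [ShortComplex.map_X₁, ShortComplex.map_X₂, ShortComplex.map_X₃] at h1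
  have e1 := chi_iso A hdim (show CohDev.tens L (ClSub.idealMod D) ≅ _ from e) (CohDev.isCoh_tens hL1 hI)
  have e2 := chi_iso A hdim (EulerChar.tensOne' L) (CohDev.isCoh_tens hL1 hO)
  change chi A (CohDev.tens L (Coh.structureModule X)) =
    chi A (CohDev.tens L (ClSub.idealMod D)) + chi A (CohDev.tens L (ClSub.quotMod D)) at h1
  linarith

end Groth.Agent.ArtEuler92
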